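/-
The degrees of the irreducible characters of `PSL(2, q)`, `q ≡ 1 (mod 4)`.

Main result (namespace `Cfsg.Agent.PSLDegrees`):
* `psl_degrees` : apart from the principal character the degrees are `q`, multiples of `q - 1`
  or multiples of `(q + 1) / 2`, and none of them is `1`
-/
import Cfsg.Agent.EqLemmas
import Cfsg.Agent.Lib.SL2Cusp.Census
import Cfsg.Agent.Lib.Codegree.Basic
import Cfsg.Agent.Lib.GLOrder.Basic
import Cfsg.Agent.S4765

set_option autoImplicit false
set_option linter.unusedSectionVars false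
set_option linter.style.haveILetI false

namespace Cfsg.Agent.PSLDegrees

open Matrix Cfsg SL2Cusp
open scoped MatrixGroups

theorem half_count_zero {h A B : ℤ} {n5 : ℕ} {n4 : ℕ} (h5 : n5 ≤ 2) (h4 : (n4 : ℤ) ≤ h) (hh : 2 ≤ h)
    (heven : Even h) (hB : B = 4 * n4 + n5)
    (heq : 1 + (2 * h + 1) ^ 2 + (h + 1) ^ 2 * A + h ^ 2 * B = 2 * (2 * h + 1) * h * (h + 1)) :
    n5 = 0 := by
  set X := 4 * (h + 1) - 10 - A - B with hX
  have e : B - 2 * h = (h + 1) ^ 2 * ((1 + 2 * (h + 1)) * X + 4 * B + 12) := by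
    rw [hX]; linear_combination (2 * (h + 1) + 1) * heq
  obtain ⟨Y, hY⟩ : ∃ Y, B - 2 * h = (h + 1) ^ 2 * Y := ⟨_, e⟩
  have hY0 : Y = 0 := by
    by_contra hne
    rcases Int.lt_or_gt_of_ne hne with hlt | hgt
    · nlinarith
    · nlinarith
  obtain ⟨s, rfl⟩ := heven
  subst hY0
  omega

variable {F : Type*} [Field F] [Fintype F] [DecidableEq F]

theorem psl_degrees {p : ℕ} [Fact p.Prime] [CharP F p] (hodd : Odd (Fintype.card F)) (h9 : 9 ≤ Fintype.card F)
    (h4 : Fintype.card F % 4 = 1) (ψ : IrrCharacter (ProjectiveSpecialLinearGroup (Fin 2) F)) :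
    (ψ : ProjectiveSpecialLinearGroup (Fin 2) F → ℂ) = 1 ∨ ∃ d : ℕ,
      (ψ : ProjectiveSpecialLinearGroup (Fin 2) F → ℂ) 1 = (d : ℂ) ∧ d ≠ 1 ∧
        (d = Fintype.card F ∨ Fintype.card F - 1 ∣ d ∨ (Fintype.card F + 1) / 2 ∣ d) := by
  classical
  haveI := Fintype.ofFinite (IrrCharacter (ProjectiveSpecialLinearGroup (Fin 2) F))
  set q := Fintype.card F with hq
  let Z := Subgroup.center SL(2, F)
  let κ : IrrCharacter (ProjectiveSpecialLinearGroup (Fin 2) F) → Fin 6 :=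
    fun φ => kindIdx (Codegree.inflate Z φ)
  have hinj : Function.Injective (Codegree.inflate Z) := fun a b h => Subtype.ext (funext fun x => by
    obtain ⟨g, rfl⟩ := QuotientGroup.mk_surjective x
    exact congrFun (congrArg Subtype.val h) g)
  have hdeg : ∀ φ : IrrCharacter (ProjectiveSpecialLinearGroup (Fin 2) F),
      (φ : ProjectiveSpecialLinearGroup (Fin 2) F → ℂ) 1 = (kindDeg q (κ φ) : ℂ) :=
    fun φ => kind_spec hodd (Codegree.inflate Z φ)
  let n : Fin 6 → ℕ := fun i => Nat.card {φ // κ φ = i}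
  have hle : ∀ i, n i ≤ kindNum q i := fun i => by
    rw [← kind_card hodd i]
    exact Nat.card_le_card_of_injective (fun φ => ⟨Codegree.inflate Z φ.1, φ.2⟩) fun a b h =>
      Subtype.ext (hinj (congrArg Subtype.val h))
  -- the principal character and the Steinberg character
  let one' : IrrCharacter (ProjectiveSpecialLinearGroup (Fin 2) F) := ⟨1, Char.isIrrCharacter_one⟩
  have hn0 : n 0 = 1 := by
    refine le_antisymm (hle 0) (Nat.card_pos_iff.2 ⟨⟨⟨one', ?_⟩⟩, inferInstance⟩)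
    show kindIdx (Codegree.inflate Z one') = 0
    unfold kindIdx
    rw [if_pos]
    rfl
  have hn1 : n 1 = 1 := by
    obtain ⟨hc, hd⟩ := S4765.result p F (by omega)
    obtain ⟨⟨φ, hφ⟩⟩ := (Nat.card_pos_iff.1 (hc.symm ▸ one_pos)).1
    refine le_antisymm (hle 1) (Nat.card_pos_iff.2 ⟨⟨⟨φ, ?_⟩⟩, inferInstance⟩)
    have h1 : kindDeg q (κ φ) = q := by
      exact (charDegree_eq (hdeg φ)).symm.trans (hd φ hφ)
    revert h1
    generalize κ φ = i
    fin_cases i <;> simp [kindDeg] <;> omega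
  -- no character of degree `(q - 1) / 2`
  have hn5 : n 5 = 0 := by
    obtain ⟨m, hm⟩ : Even (q / 2) := ⟨q / 4, by omega⟩
    have hsum := Char.sum_sq_degrees (G := ProjectiveSpecialLinearGroup (Fin 2) F)
    rw [Finset.sum_congr rfl (fun φ _ => by rw [hdeg φ]),
      ← Finset.sum_fiberwise' Finset.univ κ (fun i => ((kindDeg q i : ℕ) : ℂ) ^ 2)] at hsum
    simp only [Finset.sum_const, nsmul_eq_mul] at hsum
    have hcard : ∀ i, (Finset.univ.filter fun φ => κ φ = i).card = n i := fun i => by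
      rw [← Fintype.card_subtype]; exact Nat.card_eq_fintype_card.symm
    simp only [hcard] at hsum
    have hsum' : ∑ i, n i * kindDeg q i ^ 2 = Nat.card (ProjectiveSpecialLinearGroup (Fin 2) F) := by
      exact_mod_cast hsum
    have hPSL := GLOrder.card_PSL_two_of_odd (F := F) (by rw [Nat.card_eq_fintype_card]; exact hodd)
    rw [Nat.card_eq_fintype_card (α := F), ← hq] at hPSL
    have hb4 : n 4 ≤ q / 2 := (hle 4).trans (by simp [kindNum]; omega)
    have hb5 : n 5 ≤ 2 := (hle 5).trans (by simp [kindNum])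
    rw [Fin.sum_univ_six, hn0, hn1] at hsum'
    simp only [kindDeg, Matrix.cons_val] at hsum'
    obtain ⟨c, hc⟩ : ∃ c, q = 2 * c + 1 := ⟨q / 2, by omega⟩
    rw [hc, show (2 * c + 1 + 1) / 2 = c + 1 by omega, show 2 * c + 1 - 1 = 2 * c by omega,
      show 2 * c / 2 = c by omega] at hsum'
    have hq2 : (2 * c + 1) ^ 2 - 1 = 4 * c * (c + 1) := by
      apply Nat.sub_eq_of_eq_add; ring
    rw [hc, hq2] at hPSL
    have heq : Nat.card (ProjectiveSpecialLinearGroup (Fin 2) F) = 2 * (2 * c + 1) * c * (c + 1) := by linarith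
    rw [heq] at hsum'
    have hsumZ : ((1 * 1 ^ 2 + 1 * (2 * c + 1) ^ 2 + n 2 * (2 * c + 1 + 1) ^ 2 + n 3 * (c + 1) ^ 2 +
        n 4 * (2 * c) ^ 2 + n 5 * c ^ 2 : ℕ) : ℤ) = ((2 * (2 * c + 1) * c * (c + 1) : ℕ) : ℤ) := by
      exact_mod_cast hsum'
    push_cast at hsumZ
    refine half_count_zero (h := (c : ℤ)) (A := 4 * (n 2 : ℤ) + n 3) (n4 := n 4) hb5 (by omega) (by omega)
      ⟨(m : ℤ), by omega⟩ rfl ?_
    linear_combination hsumZ
  have hψ : κ ψ ≠ 5 := fun h => by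
    have : 0 < n 5 := Nat.card_pos_iff.2 ⟨⟨⟨ψ, h⟩⟩, inferInstance⟩
    omega
  by_cases h0 : κ ψ = 0
  · left
    haveI := (Nat.card_eq_one_iff_unique.1 hn0).1
    have h1 : κ one' = 0 := by
      show kindIdx (Codegree.inflate Z one') = 0
      unfold kindIdx
      rw [if_pos]
      rfl
    exact congrArg (fun φ : {φ // κ φ = 0} => (φ.1 : ProjectiveSpecialLinearGroup (Fin 2) F → ℂ))
      (Subsingleton.elim (⟨ψ, h0⟩ : {φ // κ φ = 0}) ⟨one', h1⟩)
  · refine Or.inr ⟨_, hdeg ψ, ?_⟩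
    revert hψ h0
    generalize κ ψ = i
    intro hψ h0
    fin_cases i <;> simp [kindDeg] at hψ h0 ⊢
    · omega
    · exact ⟨by omega, Or.inr ⟨2, by omega⟩⟩
    · omega
    · omega

end Cfsg.Agent.PSLDegrees
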