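/-
Recognition of `PSL(2, p²)`, `p` odd, among groups of the same order.

Main results (namespace `Cfsg.Agent.PSLDegrees`):
* `dvd_card_of_stabilizer_card` : orbits of equal size divide the number of points
* `cc_of_degrees` : restrictions on the degrees isolate the Sylow `p`-subgroups
* `psl_of_cc` : isolated Sylow `p`-subgroups of order `p²` give a Zassenhaus group, hence `PSL(2, p²)`
-/
import Cfsg.Agent.EqLemmas
import Cfsg.Agent.Lib.Char.Orth
import Cfsg.Agent.Lib.Char.Integral
import Cfsg.Agent.Lib.Char.PRegular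
import Cfsg.Agent.Lib.Char.Eigen
import Cfsg.Agent.Lib.Linear.GenTools
import Cfsg.Agent.Lib.GLOrder.Basic
import Cfsg.Agent.S0731

set_option autoImplicit false
set_option linter.unusedSectionVars false
set_option linter.style.haveILetI false

namespace Cfsg.Agent.PSLDegrees

open Cfsg
open scoped Pointwise

universe u

/-- Orbits of equal size divide the number of points. -/
theorem dvd_card_of_stabilizer_card {H X : Type*} [Group H] [MulAction H X] [Finite H] [Finite X]
    {c : ℕ} (h : ∀ x : X, Nat.card (MulAction.stabilizer H x) = c) : Nat.card H / c ∣ Nat.card X := by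
  classical
  haveI := Fintype.ofFinite (MulAction.orbitRel.Quotient H X)
  rw [Nat.card_congr (MulAction.selfEquivSigmaOrbits H X), Nat.card_sigma]
  refine Finset.dvd_sum fun ω _ => ?_
  rw [Nat.card_coe_set_eq, ← MulAction.index_stabilizer]
  have hm := (MulAction.stabilizer H ω.out).card_mul_index
  rw [h ω.out] at hm
  rcases Nat.eq_zero_or_pos c with rfl | hc
  · have := Nat.card_pos (α := H)
    omega
  · rw [← hm, Nat.mul_div_cancel_left _ hc]

variable {G : Type u} [Group G] [Finite G] {p : ℕ}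

/-- With these degrees no element of order `p` commutes with an element of another prime order. -/
theorem cc_of_degrees (hp : p.Prime) (hp2 : p ≠ 2)
    (hcard : 2 * Nat.card G = p ^ 2 * ((p ^ 2) ^ 2 - 1))
    (hdeg : ∀ χ : IrrCharacter G, (χ : G → ℂ) = 1 ∨ ∃ d : ℕ, (χ : G → ℂ) 1 = (d : ℂ) ∧
      (d = p ^ 2 ∨ p ^ 2 - 1 ∣ d ∨ (p ^ 2 + 1) / 2 ∣ d))
    {y s : G} {r : ℕ} (hy : orderOf y = p) (hr : r.Prime) (hs : orderOf s = r) (hrp : r ≠ p) :
    ¬ Commute y s := by
  classical
  intro hys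
  haveI := Fintype.ofFinite G
  haveI := Fintype.ofFinite (IrrCharacter G)
  obtain ⟨k, hk⟩ := hp.odd_of_ne_two hp2
  obtain ⟨l, hl⟩ := Nat.even_mul_succ_self k
  obtain ⟨q, hqdef⟩ : ∃ q, p ^ 2 = q := ⟨_, rfl⟩
  rw [hqdef] at hcard hdeg
  have hql : q = 8 * l + 1 := by rw [← hqdef, hk]; nlinarith
  have hl1 : 1 ≤ l := by
    have : 3 ≤ p := by have := hp.two_le; omega
    have : 9 ≤ q := by rw [← hqdef]; nlinarith
    omega
  have hhalf : (q + 1) / 2 = 4 * l + 1 := by omega
  have hG : Nat.card G = q * ((4 * l + 1) * (8 * l)) := by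
    have : q ^ 2 - 1 = 2 * ((4 * l + 1) * (8 * l)) := by
      apply Nat.sub_eq_of_eq_add
      rw [hql]; ring
    rw [this] at hcard
    linarith
  have hx : orderOf (y * s) = p * r := by
    rw [hys.orderOf_mul_eq_mul_orderOf_of_coprime (by rw [hy, hs]; exact (Nat.coprime_primes hp hr).2 hrp.symm),
      hy, hs]
  have hx1 : y * s ≠ 1 := fun h => by
    rw [h, orderOf_one] at hx
    exact hp.ne_one (Nat.eq_one_of_mul_eq_one_right hx.symm)
  have hrG : r ∣ Nat.card G := hs ▸ orderOf_dvd_natCard s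
  have hrq : ¬ r ∣ q := fun h =>
    hrp ((Nat.prime_dvd_prime_iff_eq hr hp).1 (hr.dvd_of_dvd_pow (hqdef ▸ h)))
  obtain ⟨D, V, hD, hfac, hrD, hdiv⟩ : ∃ D V : ℕ, 1 < D ∧ Nat.card G = q * D * V ∧ ¬ r ∣ D ∧
      ∀ d : ℕ, (q - 1 ∣ d ∨ (q + 1) / 2 ∣ d) → V ∣ d ∨ D ∣ d := by
    have h8 : q - 1 = 8 * l := by omega
    rw [hhalf, h8]
    by_cases hrm : r ∣ 8 * l
    · refine ⟨4 * l + 1, 8 * l, by omega, by rw [hG]; ring, fun h => ?_, fun d h => h⟩
      have h2 : r ∣ 2 * (4 * l + 1) := dvd_mul_of_dvd_right h 2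
      have : r ∣ 2 := by
        have := Nat.dvd_sub h2 hrm
        rwa [show 2 * (4 * l + 1) - 8 * l = 2 by omega] at this
      rw [(Nat.prime_dvd_prime_iff_eq hr Nat.prime_two).1 this] at h
      omega
    · exact ⟨8 * l, 4 * l + 1, by omega, by rw [hG]; ring, hrm, fun d h => h.symm⟩
  have hvr : (Nat.card G).factorization r = V.factorization r := by
    have h0 := Nat.card_pos (α := G)
    rw [hfac] at h0
    have hqD : q * D ≠ 0 := fun h => by rw [h, zero_mul] at h0; omega
    have hV : V ≠ 0 := fun h => by rw [h, mul_zero] at h0; omega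
    rw [hfac, Nat.factorization_mul hqD hV, Finsupp.add_apply,
      Nat.factorization_eq_zero_of_not_dvd (fun h => (hr.dvd_mul.1 h).elim hrq hrD), zero_add]
  have hvp : (Nat.card G).factorization p ≤ q.factorization p := by
    have hn : ¬ p ∣ (4 * l + 1) * (8 * l) := fun h => by
      have h1 : p ∣ q * q := dvd_mul_of_dvd_left (hqdef ▸ dvd_pow_self p two_ne_zero) q
      have h2 : p ∣ q * q - 1 := by
        have : q * q - 1 = 2 * ((4 * l + 1) * (8 * l)) := by
          apply Nat.sub_eq_of_eq_add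
          rw [hql]; ring
        rw [this]; exact dvd_mul_of_dvd_right h 2
      have := Nat.dvd_sub h1 h2
      have hqq : 1 ≤ q * q := Nat.one_le_iff_ne_zero.2 (Nat.mul_pos (by omega) (by omega)).ne'
      rw [show q * q - (q * q - 1) = 1 by omega] at this
      exact hp.ne_one (Nat.dvd_one.1 this)
    rw [hG, Nat.factorization_mul (by omega) (Nat.mul_pos (by omega) (by omega)).ne', Finsupp.add_apply,
      Nat.factorization_eq_zero_of_not_dvd hn, add_zero]
  -- every nontrivial term of the regular character at `y * s` is divisible by `D`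
  have key : ∀ χ : IrrCharacter G, (χ : G → ℂ) ≠ 1 →
      IsIntegral ℤ ((χ : G → ℂ) 1 * (χ : G → ℂ) (y * s) / (D : ℂ)) := by
    intro χ hχ
    obtain ⟨d, hd1, hd⟩ := (hdeg χ).resolve_left hχ
    have h0 := Nat.card_pos (α := G)
    rcases hd with hd | hd
    · rw [Char.vanishes_of_defect_zero hp χ.2 hd1 (hd ▸ hvp) (y * s) (hx.symm ▸ dvd_mul_right p r), mul_zero, zero_div]
      exact isIntegral_zero
    rcases hdiv d hd with h | ⟨c, rfl⟩
    · rcases Nat.eq_zero_or_pos d with rfl | hd0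
      · rw [hd1, Nat.cast_zero, zero_mul, zero_div]
        exact isIntegral_zero
      · have hV : V ≠ 0 := fun hV => by rw [hfac, hV, mul_zero] at h0; omega
        rw [Char.vanishes_of_defect_zero hr χ.2 hd1
          (hvr.le.trans ((Nat.factorization_le_iff_dvd hV hd0.ne').2 h r)) (y * s) (hx.symm ▸ dvd_mul_left r p),
          mul_zero, zero_div]
        exact isIntegral_zero
    · have hD0 : (D : ℂ) ≠ 0 := Nat.cast_ne_zero.2 (by omega)
      have : (χ : G → ℂ) 1 * (χ : G → ℂ) (y * s) / (D : ℂ) = (c : ℕ) * (χ : G → ℂ) (y * s) := by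
        rw [hd1, Nat.cast_mul]; field_simp
      rw [this]
      exact (isIntegral_algebraMap (R := ℤ) (x := (c : ℤ))).mul
        (Char.IsCharacter.isIntegral (Char.IsIrrCharacter.isCharacter χ.2) _)
  let χ₁ : IrrCharacter G := ⟨1, Char.isIrrCharacter_one⟩
  have hsum := Char.sum_degree_mul_apply (G := G) (y * s)
  rw [if_neg hx1, ← Finset.add_sum_erase _ _ (Finset.mem_univ χ₁)] at hsum
  have h1 : IsIntegral ℤ (((1 : ℕ) : ℂ) / (D : ℂ)) := by
    have : ((1 : ℕ) : ℂ) / (D : ℂ) =
        - ∑ χ ∈ Finset.univ.erase χ₁, (χ : G → ℂ) 1 * (χ : G → ℂ) (y * s) / (D : ℂ) := by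
      rw [← Finset.sum_div, ← neg_div]
      congr 1
      simp only [χ₁, Pi.one_apply] at hsum
      push_cast
      linear_combination hsum
    rw [this]
    exact (IsIntegral.sum _ fun χ hχ => key χ fun h => Finset.ne_of_mem_erase hχ (Subtype.ext h)).neg
  have := Nat.dvd_one.1 (Char.nat_dvd_of_isIntegral_div (by omega) h1)
  omega

/-- Isolated Sylow `p`-subgroups of order `p²` in a group of order `|PSL(2, p²)|`. -/
theorem psl_of_cc {F : Type*} [Field F] [Fintype F] (hp : p.Prime) (hp2 : p ≠ 2)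
    (hF : Fintype.card F = p ^ 2)
    (hcard : 2 * Nat.card G = p ^ 2 * ((p ^ 2) ^ 2 - 1))
    (hCC : ∀ (y s : G) (r : ℕ), orderOf y = p → r.Prime → orderOf s = r → r ≠ p → ¬ Commute y s) :
    Nonempty (G ≃* Matrix.ProjectiveSpecialLinearGroup (Fin 2) F) := by
  classical
  haveI : Fact p.Prime := ⟨hp⟩
  obtain ⟨k, hk⟩ := hp.odd_of_ne_two hp2
  obtain ⟨l, hl⟩ := Nat.even_mul_succ_self k
  obtain ⟨q, hqdef⟩ : ∃ q, p ^ 2 = q := ⟨_, rfl⟩
  rw [hqdef] at hcard hF
  have hql : q = 8 * l + 1 := by rw [← hqdef, hk]; nlinarith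
  have h9 : 9 ≤ q := by
    have : 3 ≤ p := by have := hp.two_le; omega
    rw [← hqdef]; nlinarith
  have hsq : q ^ 2 - 1 = 2 * ((4 * l + 1) * (8 * l)) := by
    apply Nat.sub_eq_of_eq_add
    rw [hql]; ring
  have hG : Nat.card G = q * ((4 * l + 1) * (8 * l)) := by rw [hsq] at hcard; linarith
  have hn : ¬ p ∣ (4 * l + 1) * (8 * l) := fun h => by
    have h1 : p ∣ q ^ 2 := dvd_pow (hqdef ▸ dvd_pow_self p two_ne_zero) two_ne_zero
    have h2 : p ∣ q ^ 2 - 1 := hsq ▸ dvd_mul_of_dvd_right h 2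
    have := Nat.dvd_sub h1 h2
    rw [show q ^ 2 - (q ^ 2 - 1) = 1 by have : 1 ≤ q ^ 2 := Nat.one_le_pow _ _ (by omega)
                                        omega] at this
    exact hp.ne_one (Nat.dvd_one.1 this)
  have hvG : (Nat.card G).factorization p = 2 := by
    rw [hG, Nat.factorization_mul (by omega) (Nat.mul_pos (by omega) (by omega)).ne', Finsupp.add_apply,
      Nat.factorization_eq_zero_of_not_dvd hn, add_zero, ← hqdef, hp.factorization_pow, Finsupp.single_eq_same]
  have hPc : ∀ P : Sylow p G, Nat.card P = q := fun P => by rw [P.card_eq_multiplicity, hvG, hqdef]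
  have hPcomm : ∀ P : Sylow p G, ∀ u ∈ P, ∀ w ∈ P, u * w = w * u := fun P u hu w hw => by
    have := IsPGroup.isMulCommutative_of_card_eq_prime_sq (G := P) ((hPc P).trans hqdef.symm)
    exact congrArg Subtype.val (this.1.1 ⟨u, hu⟩ ⟨w, hw⟩)
  -- centralisers of nontrivial `p`-elements
  have hcent : ∀ P : Sylow p G, ∀ y ∈ P, y ≠ 1 → ∀ g : G, Commute g y → g ∈ P := by
    intro P y hyP hy1 g hg
    obtain ⟨j, hj⟩ := P.isPGroup' ⟨y, hyP⟩
    have hdvd : orderOf y ∣ p ^ j := orderOf_dvd_of_pow_eq_one (congrArg Subtype.val hj)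
    obtain ⟨i, hi, hio⟩ := (Nat.dvd_prime_pow hp).1 hdvd
    have hi0 : i ≠ 0 := fun h => hy1 (orderOf_eq_one_iff.1 (by rw [hio, h, pow_zero]))
    have hy' : orderOf (y ^ (orderOf y / p)) = p :=
      orderOf_pow_orderOf_div (orderOf_pos y).ne' (hio ▸ dvd_pow_self p hi0)
    have hC : IsPGroup p (Subgroup.centralizer ({y} : Set G)) := by
      intro ⟨c, hc⟩
      have hcy : Commute c y := (Subgroup.mem_centralizer_singleton_iff.1 hc)
      have hall : ∀ r : ℕ, r.Prime → r ∣ orderOf c → r = p := by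
        intro r hr hrd
        by_contra hrp
        exact hCC _ _ r hy' hr (orderOf_pow_orderOf_div (orderOf_pos c).ne' hrd) hrp
          ((hcy.symm.pow_pow _ _))
      refine ⟨(orderOf c).primeFactorsList.length, Subtype.ext ?_⟩
      show c ^ _ = 1
      rw [← Nat.eq_prime_pow_of_unique_prime_dvd (orderOf_pos c).ne' (fun {d} => hall d)]
      exact pow_orderOf_eq_one c
    have hPle : (P : Subgroup G) ≤ Subgroup.centralizer ({y} : Set G) := fun u hu =>
      Subgroup.mem_centralizer_singleton_iff.2 (hPcomm P u hu y hyP)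
    have := P.is_maximal' hC hPle
    show g ∈ (P : Subgroup G)
    rw [← this]
    exact Subgroup.mem_centralizer_singleton_iff.2 hg
  have hTI : ∀ P Q : Sylow p G, ∀ y ∈ P, y ∈ Q → y ≠ 1 → P = Q := by
    intro P Q y hP hQ hy1
    refine (Sylow.ext (Subgroup.eq_of_le_of_card_ge (fun u hu => hcent P y hP hy1 u (hPcomm Q u hu y hQ)) ?_)).symm
    rw [hPc P, hPc Q]
  obtain ⟨P⟩ : Nonempty (Sylow p G) := inferInstance
  have hstab : ∀ g : G, g • P = P ↔ g ∈ Subgroup.normalizer (P : Set G) := fun g => Sylow.smul_eq_iff_mem_normalizer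
  have hPN : ∀ u ∈ P, u • P = P := fun u hu => (hstab u).2 (Subgroup.le_normalizer hu)
  have hfree : ∀ u ∈ P, ∀ Q : Sylow p G, Q ≠ P → u • Q = Q → u = 1 := by
    intro u hu Q hQ huQ
    by_contra h1
    have hz : IsPGroup p (Subgroup.zpowers u) :=
      P.isPGroup'.to_le (Subgroup.zpowers_le.2 hu)
    have hle : Subgroup.zpowers u ≤ (Q : Subgroup G) := by
      have hN : Subgroup.zpowers u ≤ Subgroup.normalizer (Q : Set G) :=
        Subgroup.zpowers_le.2 (Sylow.smul_eq_iff_mem_normalizer.1 huQ)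
      intro w hw
      exact ((le_inf le_rfl hN : Subgroup.zpowers u ≤ _).trans (hz.inf_normalizer_sylow Q).le hw).2
    exact hQ (hTI P Q u hu (hle (Subgroup.mem_zpowers u)) h1).symm
  have hmove : ∀ u ∈ P, ∀ Q : Sylow p G, Q ≠ P → u • Q ≠ P := fun u hu Q hQ h =>
    hQ (smul_left_cancel u (h.trans (hPN u hu).symm))
  -- `q + 1` Sylow subgroups
  let N := Subgroup.normalizer (P : Set G)
  letI : MulAction P {Q : Sylow p G // Q ≠ P} :=
    { smul := fun u Q => ⟨(u : G) • Q.1, hmove u u.2 Q.1 Q.2⟩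
      one_smul := fun Q => Subtype.ext (one_smul G Q.1)
      mul_smul := fun u v Q => Subtype.ext (mul_smul (u : G) v Q.1) }
  have h1 : q ∣ Nat.card {Q : Sylow p G // Q ≠ P} := by
    have h := dvd_card_of_stabilizer_card (H := P) (X := {Q : Sylow p G // Q ≠ P}) (c := 1) fun Q => by
      refine Subgroup.card_eq_one.2 (Subgroup.eq_bot_iff_forall _ |>.2 fun u hu => Subtype.ext ?_)
      exact hfree u u.2 Q.1 Q.2 (congrArg Subtype.val hu)
    rwa [Nat.div_one, hPc P] at h
  have hn1 : Nat.card {Q : Sylow p G // Q ≠ P} + 1 = Nat.card (Sylow p G) := by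
    haveI := Fintype.ofFinite (Sylow p G)
    rw [Nat.card_eq_fintype_card, Nat.card_eq_fintype_card, Fintype.card_subtype_compl, Fintype.card_subtype_eq]
    have : 0 < Fintype.card (Sylow p G) := Fintype.card_pos
    omega
  letI : MulAction N {x : G // x ∈ P ∧ x ≠ 1} :=
    { smul := fun g x => ⟨(g : G) * x.1 * (g : G)⁻¹,
        ⟨(Subgroup.mem_normalizer_iff.1 g.2 x.1).1 x.2.1, fun h => x.2.2 (conj_eq_one_iff.1 h)⟩⟩
      one_smul := fun x => Subtype.ext (show (1 : G) * x.1 * (1 : G)⁻¹ = x.1 by group)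
      mul_smul := fun g h x => Subtype.ext (show ((g : G) * h) * x.1 * ((g : G) * h)⁻¹ =
        (g : G) * ((h : G) * x.1 * (h : G)⁻¹) * (g : G)⁻¹ by group) }
  have hPN' : (P : Subgroup G) ≤ N := Subgroup.le_normalizer
  obtain ⟨e, he⟩ : q ∣ Nat.card N := hPc P ▸ Subgroup.card_dvd_of_le hPN'
  have h2 : e ∣ q - 1 := by
    have h := dvd_card_of_stabilizer_card (H := N) (X := {x : G // x ∈ P ∧ x ≠ 1}) (c := q) fun x => by
      have : MulAction.stabilizer N x = (P : Subgroup G).subgroupOf N := by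
        ext g
        rw [MulAction.mem_stabilizer_iff, Subgroup.mem_subgroupOf]
        constructor
        · intro h
          exact hcent P x.1 x.2.1 x.2.2 g (mul_inv_eq_iff_eq_mul.1 (congrArg Subtype.val h))
        · intro h
          refine Subtype.ext (mul_inv_eq_iff_eq_mul.2 ?_)
          exact hPcomm P g h x.1 x.2.1
      rw [this, Nat.card_congr (Subgroup.subgroupOfEquivOfLe hPN').toEquiv, hPc P]
    rw [he, Nat.mul_div_cancel_left _ (by omega)] at h
    refine h.trans (dvd_of_eq ?_)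
    haveI := Fintype.ofFinite (P : Subgroup G)
    let eq' : {u : (P : Subgroup G) // u ≠ 1} ≃ {x : G // x ∈ P ∧ x ≠ 1} :=
      { toFun := fun u => ⟨u.1.1, u.1.2, fun h => u.2 (Subtype.ext h)⟩
        invFun := fun x => ⟨⟨x.1, x.2.1⟩, fun h => x.2.2 (congrArg Subtype.val h)⟩
        left_inv := fun u => rfl
        right_inv := fun x => rfl }
    rw [← Nat.card_congr eq', ← hPc P, Nat.card_eq_fintype_card, Nat.card_eq_fintype_card,
      Fintype.card_subtype_compl, Fintype.card_subtype_eq]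
  have hne : Nat.card (Sylow p G) * (q * e) = Nat.card G := by
    rw [P.card_eq_index_normalizer, ← he, Subgroup.index_mul_card]
  obtain ⟨hnP, he2⟩ : Nat.card (Sylow p G) = q + 1 ∧ e * 2 = q - 1 := by
    obtain ⟨j, hj⟩ := h2
    obtain ⟨c, hc⟩ := h1
    rw [hc] at hn1
    have e1 : 2 * (q * c + 1) * e = (q + 1) * (q - 1) := by
      rw [hn1]
      have : q * (2 * Nat.card (Sylow p G) * e) = q * ((q + 1) * (q - 1)) := by
        rw [show (q + 1) * (q - 1) = q ^ 2 - 1 by simpa using (Nat.sq_sub_sq q 1).symm, ← hcard, ← hne]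
        ring
      exact Nat.eq_of_mul_eq_mul_left (by omega) this
    have he0 : 0 < e := Nat.pos_of_ne_zero fun h => by rw [h, zero_mul] at hj; omega
    have hj1 : j ≤ q - 1 := hj ▸ Nat.le_mul_of_pos_left j he0
    have e2 : 2 * (q * c + 1) = (q + 1) * j := Nat.eq_of_mul_eq_mul_right he0 (by rw [e1, hj]; ring)
    have hj2 : j = 2 := by
      have hmod : (2 * (q * c + 1)) % q = ((q + 1) * j) % q := by rw [e2]
      rw [show 2 * (q * c + 1) = 2 + q * (2 * c) by ring, show (q + 1) * j = j + q * j by ring,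
        Nat.add_mul_mod_self_left, Nat.add_mul_mod_self_left, Nat.mod_eq_of_lt (by omega : 2 < q),
        Nat.mod_eq_of_lt (by omega : j < q)] at hmod
      exact hmod.symm
    subst hj2
    refine ⟨?_, hj.symm⟩
    rw [← hn1]
    linarith
  -- `P` is regular on the other points
  have hreg : ∀ b c : Sylow p G, b ≠ P → c ≠ P → ∃! u : (P : Subgroup G), (u : G) • b = c := by
    intro b c hb hc
    let f : ↥(P : Subgroup G) → {Q : Sylow p G // Q ≠ P} := fun u => ⟨(u : G) • b, hmove u u.2 b hb⟩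
    have hinj : Function.Injective f := by
      intro u v h
      have h' : (u : G) • b = (v : G) • b := congrArg Subtype.val h
      have := hfree ((v : G)⁻¹ * u) (mul_mem (inv_mem v.2) u.2) b hb (by rw [mul_smul, h', inv_smul_smul])
      exact Subtype.ext (inv_mul_eq_one.1 this).symm
    have hbij : Function.Bijective f := (Nat.bijective_iff_injective_and_card _).2 ⟨hinj, by rw [hPc P]; omega⟩
    obtain ⟨u, hu⟩ := hbij.2 ⟨c, hc⟩
    exact ⟨u, congrArg Subtype.val hu, fun v hv => hbij.1 ((Subtype.ext hv : f v = ⟨c, hc⟩).trans hu.symm)⟩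
  have hfix3 : ∀ g : G, ∀ a b c : Sylow p G, a ≠ b → b ≠ c → a ≠ c → g • a = a → g • b = b → g • c = c → g = 1 := by
    intro g a b c hab hbc hac ha hb hc
    obtain ⟨r, hr⟩ := MulAction.exists_smul_eq G a P
    have hconj : ∀ d : Sylow p G, g • d = d → (r * g * r⁻¹) • r • d = r • d := fun d hd => by
      rw [mul_smul, mul_smul, inv_smul_smul, hd]
    have hgN : (r * g * r⁻¹) • P = P := by rw [← hr]; exact hconj a ha
    have hne : ∀ d, a ≠ d → r • d ≠ P := fun d hd h => hd (smul_left_cancel r (hr.trans h.symm))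
    set g' := r * g * r⁻¹ with hg'
    obtain ⟨u, hu, huu⟩ := hreg _ _ (hne b hab) (hne c hac)
    have hu1 : (u : G) ≠ 1 := fun h => hbc (smul_left_cancel r (by rw [← hu, h, one_smul]))
    have hmem : g' * u * g'⁻¹ ∈ P := ((Subgroup.mem_normalizer_iff.1 ((hstab g').1 hgN)) u).1 u.2
    have hfx : (g' * u * g'⁻¹) • r • b = r • c := by
      rw [mul_smul, mul_smul, inv_smul_eq_iff.2 (hconj b hb).symm, hu, hconj c hc]
    have hcomm : g' * u * g'⁻¹ = u := congrArg Subtype.val (huu ⟨_, hmem⟩ hfx)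
    have hgP : g' ∈ P := hcent P u u.2 hu1 g' (mul_inv_eq_iff_eq_mul.1 hcomm)
    exact conj_eq_one_iff.1 (hfree g' hgP _ (hne b hab) (hconj b hb))
  have htwo : MulAction.IsMultiplyPretransitive G (Sylow p G) 2 := by
    rw [MulAction.is_two_pretransitive_iff]
    intro a b c d hab hcd
    obtain ⟨r, hr⟩ := MulAction.exists_smul_eq G a P
    obtain ⟨s, hs⟩ := MulAction.exists_smul_eq G c P
    obtain ⟨u, hu, -⟩ := hreg _ _ (fun h : r • b = P => hab (smul_left_cancel r (hr.trans h.symm)))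
      (fun h : s • d = P => hcd (smul_left_cancel s (hs.trans h.symm)))
    refine ⟨s⁻¹ * u * r, ?_, ?_⟩
    · rw [mul_smul, mul_smul, hr, hPN u u.2, ← hs, inv_smul_smul]
    · rw [mul_smul, mul_smul, hu, inv_smul_smul]
  haveI := Fintype.ofFinite (Sylow p G)
  have hΩ : Fintype.card (Sylow p G) = q + 1 := by rw [← Nat.card_eq_fintype_card, hnP]
  have hfaith : FaithfulSMul G (Sylow p G) := by
    refine ⟨fun {g h} hgh => inv_mul_eq_one.mp ?_ |>.symm⟩
    have hfix : ∀ c : Sylow p G, (h⁻¹ * g) • c = c := fun c => by rw [mul_smul, hgh, inv_smul_smul]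
    obtain ⟨a, b, c, hab, hac, hbc⟩ :=
      Fintype.two_lt_card_iff.mp (show 2 < Fintype.card (Sylow p G) by omega)
    exact hfix3 _ a b c hab hbc hac (hfix a) (hfix b) (hfix c)
  haveI := hfaith
  obtain ⟨Q₀, hQ₀⟩ := Fintype.exists_ne_of_one_lt_card (show 1 < Fintype.card (Sylow p G) by omega) P
  have hex2 : ∃ g : G, g ≠ 1 ∧ ∃ a b : Sylow p G, a ≠ b ∧ g • a = a ∧ g • b = b := by
    obtain ⟨g, hgN, hgP⟩ : ∃ g ∈ N, g ∉ (P : Subgroup G) := SetLike.exists_of_lt (lt_of_le_of_ne hPN' fun h => by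
      have h' := hPc P
      rw [show Nat.card P = Nat.card N from congrArg (fun K : Subgroup G => Nat.card K) h, he] at h'
      have : e = 1 := Nat.eq_of_mul_eq_mul_left (show 0 < q by omega) (by rw [h', mul_one])
      omega)
    have hgP' : g • Q₀ ≠ P := fun h => hQ₀ (smul_left_cancel g (h.trans ((hstab g).2 hgN).symm))
    obtain ⟨u, hu, -⟩ := hreg Q₀ _ hQ₀ hgP'
    refine ⟨(u : G)⁻¹ * g, fun h => hgP ?_, P, Q₀, hQ₀.symm, ?_, ?_⟩
    · rw [← inv_mul_eq_one.1 h]; exact u.2
    · rw [mul_smul, (hstab g).2 hgN, hPN _ (inv_mem u.2)]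
    · rw [mul_smul, ← hu, inv_smul_smul]
  have hnoreg : ∀ H : Subgroup G, H.Normal → MulAction.IsPretransitive H (Sylow p G) →
      ∃ a : Sylow p G, MulAction.stabilizer H a ≠ ⊥ := by
    intro H hH htr
    by_contra hall
    push Not at hall
    have hHc : Nat.card H = q + 1 := by
      have h := MulAction.index_stabilizer_of_transitive H P
      rw [hall P, Subgroup.index_bot] at h
      omega
    obtain ⟨r, hr, hrd⟩ := Nat.exists_prime_and_dvd (show 4 * l + 1 ≠ 1 by omega)
    have hr2 : r ≠ 2 := fun h => by subst h; omega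
    haveI := Fact.mk hr
    obtain ⟨t, ht⟩ := exists_prime_orderOf_dvd_card' (G := H) 2 ⟨4 * l + 1, by omega⟩
    obtain ⟨s, hs⟩ := exists_prime_orderOf_dvd_card' (G := H) r
      (hrd.trans ⟨2, by omega⟩)
    have hne : ∀ x : H, x ≠ 1 → (x : G) • P ≠ P := fun x hx h => hx (by
      have : x ∈ MulAction.stabilizer H P := h
      rwa [hall P, Subgroup.mem_bot] at this)
    obtain ⟨u, hu, -⟩ := hreg _ _ (hne t fun h => by simp [h] at ht)
      (hne s fun h => by rw [h, orderOf_one] at hs; exact hr.ne_one hs.symm)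
    have hu' : ((u : G) * t * (u : G)⁻¹) • P = (s : G) • P := by
      rw [mul_smul, mul_smul, hPN _ (inv_mem u.2), hu]
    have hmem : (s : G)⁻¹ * ((u : G) * t * (u : G)⁻¹) ∈ H := mul_mem (inv_mem s.2) (hH.conj_mem t t.2 u)
    have : (⟨_, hmem⟩ : H) ∈ MulAction.stabilizer H P := by
      show ((s : G)⁻¹ * ((u : G) * t * (u : G)⁻¹)) • P = P
      rw [mul_smul, hu', inv_smul_smul]
    rw [hall P, Subgroup.mem_bot] at this
    have h' : (s : G) = (u : G) * t * (u : G)⁻¹ := inv_mul_eq_one.1 (congrArg Subtype.val this)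
    have ho : orderOf (s : G) = 2 := by
      rw [h', ← MulAut.conj_apply, MulEquiv.orderOf_eq, Subgroup.orderOf_coe]
      exact ht
    rw [Subgroup.orderOf_coe, hs] at ho
    exact hr2 ho
  have hZ : IsZassenhausGroup G (Sylow p G) := ⟨hfaith, htwo, hfix3, hex2, hnoreg⟩
  have hFle : (P : Subgroup G) ≤ MulAction.stabilizer G P := fun u hu => hPN u hu
  have hFn : ((P : Subgroup G).subgroupOf (MulAction.stabilizer G P)).Normal := by
    refine ⟨fun u hu g => ?_⟩
    rw [Subgroup.mem_subgroupOf] at hu ⊢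
    exact (Subgroup.mem_normalizer_iff.mp ((hstab _).1 g.2) _).mp hu
  have hFab : IsMulCommutative (P : Subgroup G) := ⟨⟨fun a b => Subtype.ext (hPcomm P a a.2 b b.2)⟩⟩
  rcases S0731.result hZ P (P : Subgroup G) hFle hFn hFab hreg with ⟨h3, -⟩ | ⟨K, iK, iKt, hK2, ⟨ψ⟩⟩
  · exfalso
    obtain ⟨t₀⟩ : Nonempty (Fin 3 ↪ Sylow p G) :=
      Function.Embedding.nonempty_of_card_le (by rw [Fintype.card_fin]; omega)
    have hsurj : Function.Surjective (fun g : G => g • t₀) := fun v => MulAction.exists_smul_eq G t₀ v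
    have h := Nat.card_le_card_of_surjective _ hsurj
    rw [Nat.card_eq_fintype_card, Fintype.card_embedding_eq, Fintype.card_fin, hΩ] at h
    simp only [Nat.descFactorial_succ, Nat.descFactorial_zero, Nat.sub_zero, mul_one] at h
    rw [show q + 1 - 1 = q by omega, show q + 1 - 2 = 8 * l by omega] at h
    rw [hG] at h
    subst hql
    nlinarith
  · haveI := iKt
    have hodd : Odd (Nat.card K) := by
      rw [Nat.card_eq_fintype_card]
      obtain ⟨m, hm, hcard⟩ := FiniteField.card K (ringChar K)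
      rw [hcard]
      exact (hm.odd_of_ne_two hK2).pow
    have h := GLOrder.card_PSL_two_of_odd (F := K) hodd
    rw [← Nat.card_congr ψ.toEquiv, hcard, Nat.card_eq_fintype_card] at h
    have hmono : StrictMonoOn (fun k : ℕ => k * (k ^ 2 - 1)) {k | 1 ≤ k} := by
      intro a ha b _ hab
      simp only [Set.mem_ofPred_eq] at ha
      have hsqab : a ^ 2 < b ^ 2 := Nat.pow_lt_pow_left hab two_ne_zero
      have ha2 : 1 ≤ a ^ 2 := Nat.one_le_pow _ _ ha
      exact Nat.mul_lt_mul_of_lt_of_lt hab (by omega)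
    have hK : Fintype.card K = Fintype.card F := by
      rw [hF]
      exact (hmono.injOn (show 1 ≤ q by omega) (show 1 ≤ Fintype.card K from Fintype.card_pos) h).symm
    exact ⟨ψ.trans (Linear.pslMapEquiv (FiniteField.ringEquivOfCardEq hK))⟩

end Cfsg.Agent.PSLDegrees
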